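/-
Baer's trick and an application (namespace `Cfsg.Agent.Baer`).

* `Hyp C`: odd order and class at most two; `Baer h`: the abelian group on the same set, `autHom`
* `le_centralizer_of_fixed`: a `p`-group `E` normalising a `p'`-group `Y`, both normalising a class two
  `p`-group `C` (`p` odd), with `C_C(E) ≤ C(Y)`, forces `Y ≤ C(C)`
-/
import Cfsg.Agent.Lib.Signalizer.PAction
import Cfsg.Agent.Lib.Coprime.Abelian

set_option autoImplicit false

namespace Cfsg.Agent.Baer

open scoped commutatorElement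

variable {C : Type*} [Group C]

/-- Odd order and commutators central. -/
structure Hyp (C : Type*) [Group C] : Prop where
  odd : Odd (Nat.card C)
  cent : ∀ a b : C, ⁅a, b⁆ ∈ Subgroup.center C

/-- The square root of an element of a group of odd order. -/
noncomputable def sqrt (z : C) : C := z ^ ((Nat.card C + 1) / 2)

theorem sqrt_mul_sqrt (h : Hyp C) (z : C) : sqrt z * sqrt z = z := by
  obtain ⟨m, hm⟩ := h.odd
  rw [sqrt, ← pow_add, show (Nat.card C + 1) / 2 + (Nat.card C + 1) / 2 = Nat.card C + 1 by omega,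
    pow_succ, pow_card_eq_one', one_mul]

theorem sqrt_mem_center (h : Hyp C) (a b : C) : sqrt ⁅a, b⁆ ∈ Subgroup.center C :=
  pow_mem (h.cent a b) _

theorem comm_mul_left (h : Hyp C) (a b c : C) : ⁅a * b, c⁆ = ⁅a, c⁆ * ⁅b, c⁆ := by
  have hz := Subgroup.mem_center_iff.1 (h.cent b c)
  rw [commutatorElement_mul_left_eq_conj_mul, hz a, mul_inv_cancel_right, hz ⁅a, c⁆]

theorem comm_mul_right (h : Hyp C) (a b c : C) : ⁅a, b * c⁆ = ⁅a, b⁆ * ⁅a, c⁆ := by
  have hz := Subgroup.mem_center_iff.1 (h.cent a c)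
  rw [show ⁅a, b * c⁆ = ⁅a, b⁆ * (b * ⁅a, c⁆ * b⁻¹) by
    simp only [commutatorElement_def]; group, hz b, mul_inv_cancel_right]

theorem comm_mul_center_left (a : C) {z : C} (hz : z ∈ Subgroup.center C) (c : C) :
    ⁅a * z, c⁆ = ⁅a, c⁆ := by
  have h1 := Subgroup.mem_center_iff.1 hz
  simp only [commutatorElement_def, mul_inv_rev]
  rw [mul_assoc a z c, ← h1 c]
  group

theorem comm_mul_center_right (a : C) {z : C} (hz : z ∈ Subgroup.center C) (c : C) :
    ⁅c, a * z⁆ = ⁅c, a⁆ := by
  rw [← commutatorElement_inv, comm_mul_center_left a hz c, commutatorElement_inv]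

/-- The product of Baer's abelian group. -/
noncomputable def bmul (a b : C) : C := a * b * sqrt ⁅b, a⁆

theorem bmul_assoc (h : Hyp C) (a b c : C) : bmul (bmul a b) c = bmul a (bmul b c) := by
  have hc : ∀ x y : C, Commute ⁅x, y⁆ c := fun x y => (Subgroup.mem_center_iff.1 (h.cent x y) c).symm
  have hs1 := sqrt_mem_center h b a
  have hs2 := sqrt_mem_center h c b
  unfold bmul
  rw [comm_mul_center_right (a * b) hs1, comm_mul_center_left (b * c) hs2, comm_mul_right h,
    comm_mul_left h]
  unfold sqrt at *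
  set k := (Nat.card C + 1) / 2
  rw [(show Commute ⁅c, a⁆ ⁅c, b⁆ from Subgroup.mem_center_iff.1 (h.cent c b) _).mul_pow,
    (show Commute ⁅b, a⁆ ⁅c, a⁆ from Subgroup.mem_center_iff.1 (h.cent c a) _).mul_pow]
  have e1 := Subgroup.mem_center_iff.1 hs1
  have e2 := Subgroup.mem_center_iff.1 hs2
  simp only [mul_assoc]
  congr 2
  rw [← mul_assoc, ← e1 c, mul_assoc]
  congr 1
  rw [← mul_assoc, ← e2 (⁅b, a⁆ ^ k * ⁅c, a⁆ ^ k)]

theorem bmul_comm (h : Hyp C) (a b : C) : bmul a b = bmul b a := by
  unfold bmul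
  have h2 : a * b = ⁅a, b⁆ * (b * a) := by rw [commutatorElement_def]; group
  have h3 : ⁅b, a⁆ = ⁅a, b⁆⁻¹ := (commutatorElement_inv a b).symm
  have e := Subgroup.mem_center_iff.1 (h.cent a b)
  rw [h2, ← e (b * a), mul_assoc, h3]
  congr 1
  unfold sqrt
  rw [inv_pow]
  nth_rewrite 1 [← sqrt_mul_sqrt h ⁅a, b⁆]
  unfold sqrt
  rw [mul_assoc, mul_inv_cancel, mul_one]

/-- The abelian group on the underlying set. -/
def Baer (_ : Hyp C) : Type _ := C

variable {h : Hyp C}

/-- The identity map into the abelian group. -/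
def toB (h : Hyp C) (a : C) : Baer h := a

/-- The identity map out of the abelian group. -/
def ofB (a : Baer h) : C := a

noncomputable instance instCommGroupBaer : CommGroup (Baer h) where
  mul a b := toB h (bmul (ofB a) (ofB b))
  one := toB h 1
  inv a := toB h (ofB a)⁻¹
  mul_assoc a b c := bmul_assoc h (ofB a) (ofB b) (ofB c)
  one_mul a := by
    change bmul 1 (ofB a) = ofB a
    simp [bmul, sqrt]
  mul_one a := by
    change bmul (ofB a) 1 = ofB a
    simp [bmul, sqrt]
  inv_mul_cancel a := by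
    change bmul (ofB a)⁻¹ (ofB a) = 1
    simp [bmul, sqrt, commutatorElement_def]
  mul_comm a b := bmul_comm h (ofB a) (ofB b)

theorem ofB_mul (a b : Baer h) : ofB (a * b) = bmul (ofB a) (ofB b) := rfl

theorem ofB_one : ofB (1 : Baer h) = 1 := rfl

theorem ofB_pow (a : Baer h) (n : ℕ) : ofB (a ^ n) = ofB a ^ n := by
  induction n with
  | zero => rw [pow_zero, pow_zero, ofB_one]
  | succ n ih =>
    rw [pow_succ, ofB_mul, ih, bmul]
    have : ⁅ofB a, ofB a ^ n⁆ = 1 :=
      commutatorElement_eq_one_iff_commute.2 ((Commute.refl _).pow_right n)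
    rw [this, sqrt, one_pow, mul_one, pow_succ]

/-- An automorphism as an automorphism of the abelian group. -/
noncomputable def autHom (h : Hyp C) (φ : C ≃* C) : Baer h ≃* Baer h where
  toFun a := toB h (φ (ofB a))
  invFun a := toB h (φ.symm (ofB a))
  left_inv a := φ.symm_apply_apply _
  right_inv a := φ.apply_symm_apply _
  map_mul' a b := by
    change φ (bmul (ofB a) (ofB b)) = bmul (φ (ofB a)) (φ (ofB b))
    simp [bmul, sqrt, map_pow, map_commutatorElement]

theorem ofB_autHom (φ : C ≃* C) (a : Baer h) : ofB (autHom h φ a) = φ (ofB a) := rfl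

section Application

open Coprime

variable {G : Type*} [Group G] [Finite G]

/-- A generalisation of the `P × Q` lemma for class two and odd `p`. -/
theorem le_centralizer_of_fixed {p : ℕ} [Fact p.Prime] (hp : p ≠ 2) {E Y K : Subgroup G}
    (hE : IsPGroup p E) (hY : (Nat.card Y).Coprime p) (hK : IsPGroup p K)
    (hcent : ∀ a b : K, ⁅a, b⁆ ∈ Subgroup.center K)
    (hEY : E ≤ Subgroup.normalizer (Y : Set G)) (hEK : E ≤ Subgroup.normalizer (K : Set G))
    (hYK : Y ≤ Subgroup.normalizer (K : Set G))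
    (hC : K ⊓ Subgroup.centralizer (E : Set G) ≤ Subgroup.centralizer (Y : Set G)) :
    Y ≤ Subgroup.centralizer (K : Set G) := by
  classical
  obtain ⟨n, hn⟩ := IsPGroup.iff_card.1 hK
  have h : Hyp K := ⟨by rw [hn]; exact ((Fact.out : p.Prime).odd_of_ne_two hp).pow, hcent⟩
  cases nonempty_fintype Y
  have hcop : ∀ v : K, v ^ Nat.card Y = 1 → v = 1 := fun v hv => by
    obtain ⟨k, hk⟩ := IsPGroup.iff_orderOf.1 hK v
    have h2 := orderOf_dvd_of_pow_eq_one hv
    rw [hk] at h2
    have h1 : p ^ k = 1 := Nat.eq_one_of_dvd_coprimes (Nat.Coprime.pow_left k hY.symm) dvd_rfl h2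
    rwa [← orderOf_eq_one_iff, hk]
  set f : Baer h →* Baer h := ∏ y : Y, (autHom h (conjAut hYK y)).toMonoidHom with hf
  have hfa : ∀ v : Baer h, f v = ∏ y : Y, autHom h (conjAut hYK y) v := fun v => by
    rw [hf, MonoidHom.finsetProd_apply]
    rfl
  have hinv : ∀ (y : Y) (v : Baer h), f (autHom h (conjAut hYK y) v) = f v := fun y v => by
    rw [hfa, hfa]
    refine Fintype.prod_equiv (Equiv.mulRight y) _ _ fun z => ?_
    apply congrArg (toB h)
    change conjAut hYK z (conjAut hYK y (ofB v)) = conjAut hYK (z * y) (ofB v)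
    rw [map_mul]
    rfl
  have hker : ∀ v : Baer h, f v = 1 → v = 1 := by
    by_contra hh
    push Not at hh
    obtain ⟨v₀, hv₀, hv₀1⟩ := hh
    -- the non-identity kernel, inside `G`
    set S : Set G := (fun v : Baer h => ((ofB v : K) : G)) '' {v | f v = 1 ∧ v ≠ 1}
    have hSp : ¬ p ∣ Nat.card S := by
      have : Finite (Baer h) := ‹Finite G› |> fun _ => (inferInstance : Finite K)
      have hinj : Function.Injective fun v : Baer h => ((ofB v : K) : G) :=
        fun a b hab => Subtype.ext hab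
      rw [Nat.card_image_of_injective hinj]
      obtain ⟨m, -, hm⟩ := (Nat.dvd_prime_pow (Fact.out : p.Prime)).1
        (hn ▸ (Subgroup.card_subgroup_dvd_card f.ker : Nat.card f.ker ∣ Nat.card (Baer h)))
      have e : Nat.card {v : Baer h | f v = 1 ∧ v ≠ 1} + 1 = Nat.card f.ker := by
        cases nonempty_fintype (Baer h)
        have hker' : Nat.card f.ker = Nat.card {v : Baer h | f v = 1} :=
          Nat.card_congr (Equiv.subtypeEquivRight fun v => Iff.rfl)
        rw [hker', Nat.card_coe_set_eq, Nat.card_coe_set_eq]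
        rw [show {v : Baer h | f v = 1 ∧ v ≠ 1} = {v : Baer h | f v = 1} \ {1} from rfl,
          Set.ncard_diff_singleton_add_one (show (1 : Baer h) ∈ {v : Baer h | f v = 1} from map_one f)
            (Set.toFinite _)]
      intro hd
      have hm0 : m ≠ 0 := by
        rintro rfl
        rw [pow_zero] at hm
        have hb := Subgroup.eq_bot_of_card_eq _ hm
        exact hv₀1 (by
          have : v₀ ∈ f.ker := hv₀
          rwa [hb, Subgroup.mem_bot] at this)
      have h1 : p ∣ Nat.card f.ker := hm ▸ dvd_pow_self p hm0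
      rw [← e] at h1
      exact (Fact.out : p.Prime).not_dvd_one ((Nat.dvd_add_right hd).1 h1)
    obtain ⟨x, ⟨v, ⟨hv, hv1⟩, rfl⟩, hfix⟩ := Signalizer.exists_fixed_mem hE S hSp (by
      rintro e he _ ⟨v, ⟨hv, hv1⟩, rfl⟩
      refine ⟨autHom h (conjAut hEK ⟨e, he⟩) v, ⟨?_, ?_⟩, rfl⟩
      · rw [hfa]
        let σ : Y ≃ Y :=
          { toFun := fun y => ⟨e⁻¹ * y * e, (Subgroup.mem_normalizer_iff''.1 (hEY he) _).1 y.2⟩
            invFun := fun y => ⟨e * y * e⁻¹, (Subgroup.mem_normalizer_iff.1 (hEY he) _).1 y.2⟩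
            left_inv := fun y => Subtype.ext (by simp [mul_assoc])
            right_inv := fun y => Subtype.ext (by simp [mul_assoc]) }
        calc ∏ y : Y, autHom h (conjAut hYK y) (autHom h (conjAut hEK ⟨e, he⟩) v)
            = ∏ y : Y, autHom h (conjAut hEK ⟨e, he⟩) (autHom h (conjAut hYK (σ y)) v) := by
              refine Finset.prod_congr rfl fun y _ => ?_
              apply congrArg (toB h)
              apply Subtype.ext
              change (y : G) * (e * ((ofB v : K) : G) * e⁻¹) * (y : G)⁻¹ =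
                e * ((e⁻¹ * (y : G) * e) * ((ofB v : K) : G) * (e⁻¹ * (y : G) * e)⁻¹) * e⁻¹
              group
          _ = autHom h (conjAut hEK ⟨e, he⟩) (∏ y : Y, autHom h (conjAut hYK y) v) := by
              rw [map_prod]
              exact Fintype.prod_equiv σ _ _ fun y => rfl
          _ = 1 := by rw [← hfa, hv, map_one]
      · rw [ne_eq, EmbeddingLike.map_eq_one_iff]
        exact hv1)
    have hYfix : ∀ y : Y, autHom h (conjAut hYK y) v = v := by
      intro y
      apply congrArg (toB h)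
      apply Subtype.ext
      change (y : G) * ((ofB v : K) : G) * (y : G)⁻¹ = ((ofB v : K) : G)
      rw [mul_inv_eq_iff_eq_mul]
      exact Subgroup.mem_centralizer_iff.1
        (hC ⟨(ofB v).2, Signalizer.mem_centralizer_iff_conj.2 hfix⟩) y y.2
    rw [hfa, Finset.prod_congr rfl fun y _ => hYfix y, Finset.prod_const, Finset.card_univ,
      ← Nat.card_eq_fintype_card] at hv
    exact hv1 (congrArg (toB h) (hcop (ofB v) (by rw [← ofB_pow, hv]; rfl)))
  intro y hy
  rw [Subgroup.mem_centralizer_iff]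
  intro k hk
  have h2 := hinv ⟨y, hy⟩ (toB h ⟨k, hk⟩)
  have h3 := hker ((autHom h (conjAut hYK ⟨y, hy⟩) (toB h ⟨k, hk⟩)) / toB h ⟨k, hk⟩)
    (by rw [map_div, h2, div_self'])
  rw [div_eq_one] at h3
  have h4 : y * k * y⁻¹ = k := congrArg (fun z : Baer h => ((ofB z : K) : G)) h3
  exact (mul_inv_eq_iff_eq_mul.1 h4).symm

end Application

end Cfsg.Agent.Baer
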